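import Mathlib

/-!
# Sections of finite étale morphisms are clopen immersions
-/

set_option autoImplicit false
set_option linter.style.haveILetI false
universe u
open CategoryTheory CategoryTheory.Limits AlgebraicGeometry

namespace Groth.Agent.H69.Sec

theorem isOpenImmersion_of_section {P T : Scheme.{u}} (p : P ⟶ T) [IsFinite p] [Etale p]
    (σ : T ⟶ P) (hσ : σ ≫ p = 𝟙 T) : IsOpenImmersion σ := by
  haveI : Etale (σ ≫ p) := by rw [hσ]; infer_instance
  haveI : Etale σ := Etale.of_comp σ p
  haveI : IsSplitMono σ := ⟨⟨⟨p, hσ⟩⟩⟩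
  exact IsOpenImmersion.of_flat_of_mono σ

theorem isClosedImmersion_of_section {P T : Scheme.{u}} (p : P ⟶ T) [IsFinite p] [Etale p]
    (σ : T ⟶ P) (hσ : σ ≫ p = 𝟙 T) : IsClosedImmersion σ := by
  have h1 : IsClosedImmersion (σ ≫ p) := by rw [hσ]; infer_instance
  exact MorphismProperty.of_postcomp (W := @IsClosedImmersion)
    (W' := @IsSeparated) σ p inferInstance h1

theorem isClopen_range_of_section {P T : Scheme.{u}} (p : P ⟶ T) [IsFinite p] [Etale p]
    (σ : T ⟶ P) (hσ : σ ≫ p = 𝟙 T) : IsClopen (Set.range σ) := by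
  haveI := isOpenImmersion_of_section p σ hσ
  haveI := isClosedImmersion_of_section p σ hσ
  exact ⟨σ.isClosedEmbedding.isClosed_range, σ.isOpenEmbedding.isOpen_range⟩

end Groth.Agent.H69.Sec
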