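import Mathlib
import Groth.Agent.H69.Sec.S1
import Groth.Agent.H4.Sec_S2
import Groth.Agent.H64.Sec_S3

/-!
# Sections of a finite étale morphism of constant degree over a connected base
-/

set_option autoImplicit false
set_option linter.style.haveILetI false
universe u
open CategoryTheory CategoryTheory.Limits AlgebraicGeometry

namespace Groth.Agent.H69.Sec

open Groth.Agent.H4.Sec_S2 Groth.Agent.H64.Sec_S3

/-- Morphisms over `Y` into `X` are the sections of the base change. -/
noncomputable def overHomEquiv {X Y X' : Scheme.{u}} (f : X ⟶ Y) (φ : X' ⟶ Y) :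
    (Over.mk φ ⟶ Over.mk f) ≃
      {σ : X' ⟶ pullback f φ // σ ≫ pullback.snd f φ = 𝟙 X'} where
  toFun h := ⟨pullback.lift h.left (𝟙 X') (by
    rw [Category.id_comp]
    exact Over.w h), pullback.lift_snd _ _ _⟩
  invFun σ := Over.homMk (σ.1 ≫ pullback.fst f φ) (by
    show (σ.1 ≫ pullback.fst f φ) ≫ f = φ
    rw [Category.assoc, pullback.condition, ← Category.assoc, σ.2, Category.id_comp])
  left_inv h := by
    apply Over.OverMorphism.ext
    exact pullback.lift_fst _ _ _
  right_inv σ := by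
    apply Subtype.ext
    apply pullback.hom_ext
    · exact pullback.lift_fst _ _ _
    · exact (pullback.lift_snd _ _ _).trans σ.2.symm

theorem section_apply {P T : Scheme.{u}} (p : P ⟶ T) (σ : T ⟶ P) (hσ : σ ≫ p = 𝟙 T) (t : T) :
    p.base (σ.base t) = t := by
  have := congrArg (fun f : T ⟶ T => f.base t) hσ
  simpa using this

theorem main {P T : Scheme.{u}} (p : P ⟶ T) [IsFinite p] [Etale p] [Nonempty T]
    [ConnectedSpace T] (n : ℕ) (hn : ∀ t : T, p.finrank t = n) :
    Finite {σ : T ⟶ P // σ ≫ p = 𝟙 T} ∧ Nat.card {σ : T ⟶ P // σ ≫ p = 𝟙 T} ≤ n ∧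
      (Nat.card {σ : T ⟶ P // σ ≫ p = 𝟙 T} = n ↔
        ∃ e : P ≅ ∐ fun _ : Fin n => T, e.hom ≫ Sigma.desc (fun _ : Fin n => 𝟙 T) = p) := by
  classical
  have hdisj : ∀ σ τ : {σ : T ⟶ P // σ ≫ p = 𝟙 T}, σ ≠ τ →
      Disjoint (Set.range σ.1.base) (Set.range τ.1.base) := by
    intro σ τ hne
    rw [Set.disjoint_left]
    rintro z ⟨t, rfl⟩ ⟨t', ht'⟩
    have h1 : t' = t := by
      have := congrArg p.base ht'
      rwa [section_apply p τ.1 τ.2, section_apply p σ.1 σ.2] at this
    subst h1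
    exact hne (Subtype.ext (section_ext p σ.1 τ.1 σ.2 τ.2 t' ht'.symm))
  have hbound : ∀ (k : ℕ) (s : Fin k → {σ : T ⟶ P // σ ≫ p = 𝟙 T}), Function.Injective s →
      k ≤ n ∧ (k = n → ∀ z : P, ∃ i, z ∈ Set.range (s i).1.base) := by
    intro k s hs
    exact card_le_finrank k p n hn (fun i => (s i).1) (fun i => (s i).2)
      (fun i j hij => hdisj _ _ (hs.ne hij))
  have hfin : Finite {σ : T ⟶ P // σ ≫ p = 𝟙 T} := by
    by_contra hinf
    rw [not_finite_iff_infinite] at hinf
    have emb := Infinite.natEmbedding {σ : T ⟶ P // σ ≫ p = 𝟙 T}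
    have := (hbound (n + 1) (fun i => emb i.1)
      (fun i j hij => Fin.ext (emb.injective hij))).1
    omega
  have hcard : Nat.card {σ : T ⟶ P // σ ≫ p = 𝟙 T} ≤ n :=
    (hbound _ (Finite.equivFin _).symm (Finite.equivFin _).symm.injective).1
  refine ⟨hfin, hcard, ⟨fun hc => ?_, ?_⟩⟩
  · -- trivialization from `n` sections
    let eqv : {σ : T ⟶ P // σ ≫ p = 𝟙 T} ≃ Fin n := Finite.equivFinOfCardEq hc
    let σ' : Fin n → (T ⟶ P) := fun i => (eqv.symm i).1
    have hσ' : ∀ i, σ' i ≫ p = 𝟙 T := fun i => (eqv.symm i).2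
    have hcov := (hbound n eqv.symm eqv.symm.injective).2 rfl
    haveI : ∀ i, IsOpenImmersion (σ' i) := fun i => isOpenImmersion_of_section p _ (hσ' i)
    have hcol : Nonempty (IsColimit (Cofan.mk P σ')) := by
      refine nonempty_isColimit_cofanMk_of σ' ?_ ?_
      · rw [eq_top_iff]
        intro z _
        obtain ⟨i, hi⟩ := hcov z
        exact TopologicalSpace.Opens.mem_iSup.mpr ⟨i, hi⟩
      · intro i j hij
        show Disjoint (σ' i).opensRange (σ' j).opensRange
        rw [← TopologicalSpace.Opens.coe_disjoint]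
        exact hdisj _ _ (fun h => hij (eqv.symm.injective h))
    have hiso : IsIso (Sigma.desc σ') := by
      have := (Cofan.nonempty_isColimit_iff_isIso_sigmaDesc (Cofan.mk P σ')).mp hcol
      simpa using this
    refine ⟨(asIso (Sigma.desc σ')).symm, ?_⟩
    show inv (Sigma.desc σ') ≫ _ = p
    rw [IsIso.inv_comp_eq]
    apply Sigma.hom_ext
    intro i
    rw [Sigma.ι_desc, ← Category.assoc, Sigma.ι_desc]
    exact (hσ' i).symm
  · rintro ⟨e, he⟩
    let τ : Fin n → {σ : T ⟶ P // σ ≫ p = 𝟙 T} := fun i =>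
      ⟨Sigma.ι (fun _ : Fin n => T) i ≫ e.inv, by
        rw [Category.assoc, ← he, Iso.inv_hom_id_assoc, Sigma.ι_desc]⟩
    have hτ : Function.Injective τ := by
      intro i j hij
      have h1 : Sigma.ι (fun _ : Fin n => T) i ≫ e.inv = Sigma.ι (fun _ : Fin n => T) j ≫ e.inv :=
        congrArg Subtype.val hij
      have h2 : Sigma.ι (fun _ : Fin n => T) i = Sigma.ι (fun _ : Fin n => T) j :=
        (cancel_mono e.inv).mp h1
      by_contra hne
      have hd := disjoint_opensRange_sigmaι (fun _ : Fin n => T) i j hne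
      obtain ⟨t⟩ := ‹Nonempty T›
      have hmem : (Sigma.ι (fun _ : Fin n => T) i).base t ∈
          (Sigma.ι (fun _ : Fin n => T) i).opensRange ⊓
            (Sigma.ι (fun _ : Fin n => T) j).opensRange :=
        ⟨⟨t, rfl⟩, ⟨t, by rw [h2]⟩⟩
      rw [hd.eq_bot] at hmem
      exact hmem
    have := Nat.card_le_card_of_injective τ hτ
    rw [Nat.card_fin] at this
    omega

end Groth.Agent.H69.Sec
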