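import Mathlib
import Groth.Agent.H69.Sec.Main
import Groth.Agent.H80.Sec_DJ
import Groth.Agent.H65.Sec_S4
import Groth.Agent.H69.FEtColim.PT1

/-!
# Geometric fibres and the degree; free actions on finite étale covers
-/

set_option autoImplicit false
set_option linter.style.haveILetI false
universe u
open CategoryTheory CategoryTheory.Limits AlgebraicGeometry

namespace Groth.Agent.H69.Sec

open Groth.Agent.H80.Sec_DJ Groth.Agent.H65.Sec_S4

/-- sections `Sigma.ι i ≫ e.inv` of a trivialized cover: disjoint and covering -/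
theorem triv_sections {P T : Scheme.{u}} (p : P ⟶ T) (m : ℕ)
    (e : P ≅ ∐ fun _ : Fin m => T) (he : e.hom ≫ Sigma.desc (fun _ : Fin m => 𝟙 T) = p) :
    (∀ i : Fin m, (Sigma.ι (fun _ : Fin m => T) i ≫ e.inv) ≫ p = 𝟙 T) ∧
    (∀ i j : Fin m, i ≠ j →
      Disjoint (Set.range (Sigma.ι (fun _ : Fin m => T) i ≫ e.inv).base)
        (Set.range (Sigma.ι (fun _ : Fin m => T) j ≫ e.inv).base)) ∧
    (∀ z : P, ∃ i : Fin m, z ∈ Set.range (Sigma.ι (fun _ : Fin m => T) i ≫ e.inv).base) := by
  refine ⟨fun i => ?_, fun i j hij => ?_, fun z => ?_⟩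
  · rw [Category.assoc, ← he, Iso.inv_hom_id_assoc, Sigma.ι_desc]
  · rw [Set.disjoint_left]
    rintro z ⟨a, rfl⟩ ⟨b, hb⟩
    have h1 : e.inv.base ((Sigma.ι (fun _ : Fin m => T) j).base b) =
        e.inv.base ((Sigma.ι (fun _ : Fin m => T) i).base a) := by
      simpa using hb
    have hinj : Function.Injective e.inv.base :=
      (Scheme.homeoOfIso e.symm).injective
    have h2 := hinj h1
    have hd := disjoint_opensRange_sigmaι (fun _ : Fin m => T) i j hij
    have hmem : (Sigma.ι (fun _ : Fin m => T) i).base a ∈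
        (Sigma.ι (fun _ : Fin m => T) i).opensRange ⊓
          (Sigma.ι (fun _ : Fin m => T) j).opensRange :=
      ⟨⟨a, rfl⟩, ⟨b, h2⟩⟩
    rw [hd.eq_bot] at hmem
    exact hmem
  · obtain ⟨i, a, ha⟩ := (sigmaOpenCover (fun _ : Fin m => T)).exists_eq (e.hom.base z)
    replace ha : (Sigma.ι (fun _ : Fin m => T) i).base a = e.hom.base z := ha
    refine ⟨i, a, ?_⟩
    have : (Sigma.ι (fun _ : Fin m => T) i ≫ e.inv).base a =
        e.inv.base ((Sigma.ι (fun _ : Fin m => T) i).base a) := by simp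
    rw [this, ha]
    have h3 := congrArg (fun f : P ⟶ P => f.base z) e.hom_inv_id
    simpa using h3

theorem card_sections_of_sepClosed (Ω : Type u) [Field Ω] [IsSepClosed Ω] {Z : Scheme.{u}}
    (p : Z ⟶ Spec (CommRingCat.of Ω)) [IsFinite p] [Etale p] (n : ℕ)
    (hn : ∀ t, p.finrank t = n) :
    Nat.card {σ : Spec (CommRingCat.of Ω) ⟶ Z // σ ≫ p = 𝟙 _} = n := by
  haveI : Unique (Spec (CommRingCat.of Ω)) := inferInstanceAs (Unique (PrimeSpectrum Ω))
  haveI : ConnectedSpace (Spec (CommRingCat.of Ω)) :=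
    { toPreconnectedSpace := inferInstance, toNonempty := inferInstance }
  obtain ⟨m, e, he⟩ := Groth.Agent.H69.FEtColim.PT1.exists_iso_sigma_aux Ω p
  obtain ⟨h1, h2, h3⟩ := triv_sections p m e he
  have hm : m = n := card_eq_finrank_of_cover m p n hn _ h1 h2 h3
  subst hm
  exact ((main p m hn).2.2).2 ⟨e, he⟩

end Groth.Agent.H69.Sec
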