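import Mathlib
import Groth.Agent.H69.Sec.Main2

/-!
# Free actions of finite groups on finite étale covers of constant degree
-/

set_option autoImplicit false
set_option linter.style.haveILetI false
set_option linter.unnecessarySimpa false
universe u
open CategoryTheory CategoryTheory.Limits AlgebraicGeometry

namespace Groth.Agent.H69.Sec

open Groth.Agent.H4.Sec_S2 Groth.Agent.H64.Sec_S3 Groth.Agent.H80.Sec_DJ Groth.Agent.H65.Sec_S4

/-- geometric points over `ξ` are sections of the base change -/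
noncomputable def fiberObjEquiv {X : Scheme.{u}} (Y : FEt.Cat X) {Ω : Type u} [Field Ω]
    (ξ : Spec (CommRingCat.of Ω) ⟶ X) :
    FEt.fiberObj ξ Y ≃ {σ : Spec (CommRingCat.of Ω) ⟶ pullback Y.hom ξ //
      σ ≫ pullback.snd Y.hom ξ = 𝟙 _} :=
  Equiv.trans
    { toFun := fun s => (Over.homMk s.1 s.2 : Over.mk ξ ⟶ Over.mk Y.hom)
      invFun := fun h => ⟨h.left, Over.w h⟩
      left_inv := fun s => rfl
      right_inv := fun h => by
        apply Over.OverMorphism.ext
        rfl }
    (overHomEquiv Y.hom ξ)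

theorem finrank_eq_of_fiber {X : Scheme.{u}} (Y : FEt.Cat X) (n : ℕ)
    (hn : ∀ (Ω : Type u) [Field Ω] [IsSepClosed Ω] (ξ : Spec (CommRingCat.of Ω) ⟶ X),
      Nat.card (FEt.fiberObj ξ Y) = n) (x : X) : Y.hom.finrank x = n := by
  haveI : IsFinite Y.hom := Y.prop.1
  haveI : Etale Y.hom := Y.prop.2
  let Ω := AlgebraicClosure (X.residueField x)
  let ξ : Spec (CommRingCat.of Ω) ⟶ X :=
    Spec.map (CommRingCat.ofHom (algebraMap (X.residueField x) Ω)) ≫ X.fromSpecResidueField x
  have hξ : ∀ t, ξ.base t = x := by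
    intro t
    show (Spec.map _ ≫ X.fromSpecResidueField x).base t = x
    rw [Scheme.Hom.comp_apply]
    exact Scheme.fromSpecResidueField_apply _ _
  have h1 := hn Ω ξ
  rw [Nat.card_congr (fiberObjEquiv Y ξ)] at h1
  have h2 : ∀ t, (pullback.snd Y.hom ξ).finrank t = Y.hom.finrank x := by
    intro t
    rw [Scheme.Hom.finrank_pullback_snd, hξ]
  have h3 := card_sections_of_sepClosed Ω (pullback.snd Y.hom ξ) (Y.hom.finrank x) h2
  exact h3.symm.trans h1

theorem free_action {X : Scheme.{u}} (Y : FEt.Cat X)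
    [Nonempty ↥Y.left] (n : ℕ)
    (hn : ∀ (Ω : Type u) [Field Ω] [IsSepClosed Ω] (ξ : Spec (CommRingCat.of Ω) ⟶ X),
      Nat.card (FEt.fiberObj ξ Y) = n)
    (G : Type u) [Group G] [Finite G] (ρ : G →* Aut Y)
    (hfree : ∀ g : G, g ≠ 1 → ∀ (K : Type u) [Field K] (y : Spec (CommRingCat.of K) ⟶ Y.left),
      y ≫ (ρ g).hom.left ≠ y) :
    Nat.card G ≤ n ∧
      (Nat.card G = n ↔ IsIso (Limits.Sigma.desc fun g : G =>
        pullback.lift (𝟙 Y.left) (ρ g).hom.left
          ((Category.id_comp Y.hom).trans (Over.w (ρ g).hom.hom).symm) :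
            (∐ fun _ : G => Y.left) ⟶ pullback Y.hom Y.hom)) := by
  classical
  haveI : IsFinite Y.hom := Y.prop.1
  haveI : Etale Y.hom := Y.prop.2
  have hrank := finrank_eq_of_fiber Y n hn
  haveI : Nonempty ↥((𝟭 Scheme).obj Y.left) := ‹Nonempty ↥Y.left›
  have hp : ∀ y : Y.left, (pullback.fst Y.hom Y.hom).finrank y = n := by
    intro y
    rw [Scheme.Hom.finrank_pullback_fst]
    exact hrank _
  let σ : G → (Y.left ⟶ pullback Y.hom Y.hom) := fun g =>
    pullback.lift (𝟙 Y.left) (ρ g).hom.left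
      ((Category.id_comp Y.hom).trans (Over.w (ρ g).hom.hom).symm)
  have hσ : ∀ g, σ g ≫ pullback.fst Y.hom Y.hom = 𝟙 _ := fun g => pullback.lift_fst _ _ _
  have hdisj : ∀ g h : G, g ≠ h → Disjoint (Set.range (σ g).base) (Set.range (σ h).base) :=
    fun g h hgh => disjoint_of_free Y G ρ hfree g h hgh
  let eqv : G ≃ Fin (Nat.card G) := Finite.equivFin G
  have hb := card_le_finrank (Nat.card G) (pullback.fst Y.hom Y.hom) n hp
    (fun i => σ (eqv.symm i)) (fun i => hσ _)
    (fun i j hij => hdisj _ _ (fun h => hij (eqv.symm.injective h)))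
  refine ⟨hb.1, ?_⟩
  show Nat.card G = n ↔ IsIso (Sigma.desc σ)
  constructor
  · intro hc
    have hcov := hb.2 hc
    haveI : ∀ g, IsOpenImmersion (σ g) := fun g =>
      isOpenImmersion_of_section (pullback.fst Y.hom Y.hom) _ (hσ g)
    have hcol : Nonempty (IsColimit (Cofan.mk (pullback Y.hom Y.hom) σ)) := by
      refine nonempty_isColimit_cofanMk_of σ ?_ ?_
      · rw [eq_top_iff]
        intro z _
        obtain ⟨i, hi⟩ := hcov z
        exact TopologicalSpace.Opens.mem_iSup.mpr ⟨eqv.symm i, hi⟩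
      · intro g h hgh
        show Disjoint (σ g).opensRange (σ h).opensRange
        rw [← TopologicalSpace.Opens.coe_disjoint]
        exact hdisj g h hgh
    have := (Cofan.nonempty_isColimit_iff_isIso_sigmaDesc
      (Cofan.mk (pullback Y.hom Y.hom) σ)).mp hcol
    simpa using this
  · intro hiso
    have hcov : ∀ z : ↥(pullback Y.hom Y.hom), ∃ i : Fin (Nat.card G),
        z ∈ Set.range (σ (eqv.symm i)).base := by
      intro z
      obtain ⟨g, a, ha⟩ := (sigmaOpenCover (fun _ : G => Y.left)).exists_eq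
        ((inv (Sigma.desc σ)).base z)
      replace ha : (Sigma.ι (fun _ : G => Y.left) g).base a = (inv (Sigma.desc σ)).base z := ha
      refine ⟨eqv g, a, ?_⟩
      rw [eqv.symm_apply_apply]
      have h1 : (σ g).base a = (Sigma.desc σ).base ((Sigma.ι (fun _ : G => Y.left) g).base a) := by
        rw [← Scheme.Hom.comp_apply, Sigma.ι_desc]
      rw [h1, ha, ← Scheme.Hom.comp_apply, IsIso.inv_hom_id]
      rfl
    exact card_eq_finrank_of_cover (Nat.card G) (pullback.fst Y.hom Y.hom) n hp
      (fun i => σ (eqv.symm i)) (fun i => hσ _)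
      (fun i j hij => hdisj _ _ (fun h => hij (eqv.symm.injective h))) hcov

end Groth.Agent.H69.Sec
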